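import Groth.Agent.GrLCLib.ExtStarInj
import Groth.Agent.GrLCHull.Basic
import Mathlib.RingTheory.Filtration

/-!
The *injective envelope of the residue field at a graded maximal ideal is an ungraded injective hull.
-/

set_option autoImplicit false
set_option linter.unusedSectionVars false
set_option linter.style.haveILetI false
set_option backward.isDefEq.respectTransparency false
set_option backward.isDefEq.respectTransparency.types false
universe u

open scoped Classical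
open DirectSum Groth.Agent.GrLCLib Groth.Agent.GrLCHull

noncomputable section

namespace Groth.Agent.GrLCBassLib

variable {ι : Type} [AddCommGroup ι] [DecidableEq ι]
variable {R : Type u} [CommRing R] [IsNoetherianRing R] (𝒜 : ι → AddSubgroup R) [GradedRing 𝒜]
  (m : HomogeneousIdeal 𝒜)
  {X : Type u} [AddCommGroup X] [Module R X] (𝒳 : ι → AddSubgroup X) [DirectSum.Decomposition 𝒳]
  [SetLike.GradedSMul 𝒜 𝒳]

lemma homog_pow_smul {g : ι} {x : X} (hx : x ∈ 𝒳 g) (N : ℕ) :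
    Homog 𝒳 ((m.toIdeal ^ N) • Submodule.span R {x}) := by
  have hh : (m.toIdeal ^ N).IsHomogeneous 𝒜 := by
    induction N with
    | zero => rw [pow_zero, Ideal.one_eq_top]; exact Ideal.IsHomogeneous.top 𝒜
    | succ t ih => rw [pow_succ]; exact Ideal.IsHomogeneous.mul ih m.isHomogeneous
  intro y hy h
  rw [Submodule.mem_smul_span_singleton] at hy ⊢
  obtain ⟨r, hr, rfl⟩ := hy
  exact ⟨pr 𝒜 (h - g) r, hh _ hr, (pr_smul_left 𝒜 𝒳 hx h r).symm⟩

variable {e : (R ⧸ m.toIdeal) →ₗ[R] X}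

lemma range_le_gam : LinearMap.range e ≤ GrLC.gam m.toIdeal X := by
  rintro _ ⟨z, rfl⟩
  refine ⟨1, fun r hr => ?_⟩
  rw [pow_one] at hr
  obtain ⟨z, rfl⟩ := Ideal.Quotient.mk_surjective z
  rw [← map_smul]
  have : r • Ideal.Quotient.mk m.toIdeal z = 0 :=
    Ideal.Quotient.eq_zero_iff_mem.2 (Ideal.mul_mem_right _ _ hr)
  rw [this, map_zero]

theorem gam_eq_top (he : GrLC.IsStarInjHull 𝒜 (GrLC.quotGr 𝒜 m) 𝒳 e) :
    GrLC.gam m.toIdeal X = ⊤ := by
  refine eq_top_iff.2 fun x _ => mem_of_pr_mem 𝒳 fun g => ?_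
  set y := pr 𝒳 g x
  have hy : y ∈ 𝒳 g := pr_mem 𝒳 g x
  let S := Submodule.span R {y}
  haveI : IsNoetherian R S := isNoetherian_span_of_finite R (Set.finite_singleton y)
  obtain ⟨c, hc⟩ : ∃ c : ℕ, ∀ z ∈ GrLC.gam m.toIdeal X ⊓ S, ∀ r ∈ m.toIdeal ^ c, r • z = 0 := by
    let T : Submodule R S := (GrLC.gam m.toIdeal X).comap S.subtype
    obtain ⟨s, hs⟩ : T.FG := IsNoetherian.noetherian _
    choose N hN using fun z : T => z.2
    refine ⟨s.attach.sup fun z => N ⟨z.1, hs ▸ Submodule.subset_span z.2⟩, fun z hz r hr => ?_⟩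
    have hz' : (⟨z, hz.2⟩ : S) ∈ Submodule.span R (s : Set S) := hs ▸ (show ⟨z, hz.2⟩ ∈ T from hz.1)
    suffices H : ∀ w : S, w ∈ Submodule.span R (s : Set S) → r • (w : X) = 0 from H _ hz'
    intro w hw
    induction hw using Submodule.span_induction with
    | mem w hw =>
      exact hN ⟨w, hs ▸ Submodule.subset_span hw⟩ r
        (Ideal.pow_le_pow_right (Finset.le_sup
          (f := fun z : s => N ⟨z.1, hs ▸ Submodule.subset_span z.2⟩) (Finset.mem_attach s ⟨w, hw⟩)) hr)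
    | zero => simp
    | add u v _ _ hu hv => rw [Submodule.coe_add, smul_add, hu, hv, add_zero]
    | smul t u _ hu => rw [Submodule.coe_smul, smul_comm, hu, smul_zero]
  let T' : Submodule R S := (GrLC.gam m.toIdeal X).comap S.subtype
  obtain ⟨k, hk⟩ := m.toIdeal.exists_pow_inf_eq_pow_smul (M := S) T'
  refine ⟨c + k, ?_⟩
  by_contra hne
  push Not at hne
  obtain ⟨r, hr, hr0⟩ := hne
  set P := (m.toIdeal ^ (c + k)) • S
  have hP : P ≠ ⊥ := fun h => hr0 ((Submodule.eq_bot_iff P).1 h _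
    (Submodule.smul_mem_smul hr (Submodule.mem_span_singleton_self y)))
  refine he.essential P ((homog_iff 𝒳).2 (homog_pow_smul 𝒜 m 𝒳 hy _)) hP ?_
  refine (Submodule.eq_bot_iff _).2 fun z hz => ?_
  have hzS : z ∈ S := Submodule.smul_le_right hz.1
  have h1 : (⟨z, hzS⟩ : S) ∈ m.toIdeal ^ c • (m.toIdeal ^ k • (⊤ : Submodule R S) ⊓ T') := by
    have h2 := hk (c + k) (Nat.le_add_left k c)
    rw [Nat.add_sub_cancel] at h2
    rw [← h2]
    refine ⟨?_, range_le_gam 𝒜 m hz.2⟩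
    have : (m.toIdeal ^ (c + k) • (⊤ : Submodule R S)).map S.subtype = P := by
      rw [Submodule.map_smul'', Submodule.map_top, Submodule.range_subtype]
    have hz1 : z ∈ (m.toIdeal ^ (c + k) • (⊤ : Submodule R S)).map S.subtype := this ▸ hz.1
    obtain ⟨w, hw, rfl⟩ := hz1
    exact hw
  have h3 : ∀ w : S, w ∈ m.toIdeal ^ c • T' → (w : X) = 0 := fun w hw => by
    refine Submodule.smul_induction_on hw (fun a ha b hb => hc b ⟨hb, b.2⟩ a ha)
      (fun u v hu hv => by rw [Submodule.coe_add, hu, hv, add_zero])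
  exact h3 _ (Submodule.smul_mono le_rfl inf_le_right h1)

variable [m.toIdeal.IsMaximal]

theorem baer (he : GrLC.IsStarInjHull 𝒜 (GrLC.quotGr 𝒜 m) 𝒳 e) : Module.Baer R X := by
  intro I f
  have htors := gam_eq_top 𝒜 m 𝒳 he
  obtain ⟨c, hc⟩ : ∃ c : ℕ, ∀ r ∈ m.toIdeal ^ c, ∀ x : I, r • f x = 0 := by
    obtain ⟨s, hs⟩ : (⊤ : Submodule R I).FG := IsNoetherian.noetherian _
    choose N hN using fun x : I => (show f x ∈ GrLC.gam m.toIdeal X from htors ▸ Submodule.mem_top)
    refine ⟨s.sup N, fun r hr x => ?_⟩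
    have hx : x ∈ Submodule.span R (s : Set I) := hs ▸ Submodule.mem_top
    induction hx using Submodule.span_induction with
    | mem y hy => exact hN y r (Ideal.pow_le_pow_right (Finset.le_sup (f := N) hy) hr)
    | zero => simp
    | add u v _ _ hu hv => rw [map_add, smul_add, hu, hv, add_zero]
    | smul t u _ hu => rw [map_smul, smul_comm, hu, smul_zero]
  obtain ⟨k, hk⟩ := m.toIdeal.exists_pow_inf_eq_pow_smul (M := R) I
  let M₀ : Submodule R R := m.toIdeal ^ (c + k)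
  let p : R →ₗ.[R] X := ⟨I, f⟩
  let q : R →ₗ.[R] X := ⟨M₀, 0⟩
  have hvan : ∀ (x : R) (hx : x ∈ I), x ∈ M₀ → f ⟨x, hx⟩ = 0 := by
    intro x hx hxJ
    have h1 : x ∈ m.toIdeal ^ c • (m.toIdeal ^ k • (⊤ : Submodule R R) ⊓ I) := by
      have h2 := hk (c + k) (Nat.le_add_left k c)
      rw [Nat.add_sub_cancel] at h2
      rw [← h2]
      refine ⟨?_, hx⟩
      rw [← mul_one x, ← smul_eq_mul]
      exact Submodule.smul_mem_smul hxJ Submodule.mem_top
    obtain ⟨hy, hy'⟩ := Submodule.smul_induction_on (p := fun z => ∃ hz : z ∈ I, f ⟨z, hz⟩ = 0)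
      (Submodule.smul_mono le_rfl inf_le_right h1)
      (fun r hr w hw => ⟨I.smul_mem r hw, (map_smul f r ⟨w, hw⟩).trans (hc r hr _)⟩)
      (fun u v ⟨hu, ihu⟩ ⟨hv, ihv⟩ =>
        ⟨I.add_mem hu hv, (map_add f ⟨u, hu⟩ ⟨v, hv⟩).trans (by rw [ihu, ihv, add_zero])⟩)
    exact hy'
  have hagree : ∀ (x : p.domain) (z : q.domain), (x : R) = z → p x = q z := by
    rintro ⟨x, hx⟩ ⟨z, hz⟩ (rfl : x = z)
    exact hvan x hx hz
  have main : ∀ J : Ideal R, m.toIdeal ^ (c + k) ≤ J → ∀ p' : R →ₗ.[R] X, p'.domain = J →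
      ∃ g : R →ₗ[R] X, ∀ x : p'.domain, g x = p' x := by
    intro J
    induction J using WellFoundedGT.induction with
    | ind J ih =>
      intro hJ p' hp'
      by_cases htop : J = ⊤
      · exact ⟨p'.toFun ∘ₗ LinearMap.id.codRestrict p'.domain (fun r => by rw [hp', htop]; trivial), fun x => rfl⟩
      have hex : ∃ t, m.toIdeal ^ t ≤ J := ⟨c + k, hJ⟩
      have ht0 : Nat.find hex ≠ 0 := fun h => htop (by
        have := Nat.find_spec hex
        rwa [h, pow_zero, Ideal.one_eq_top, top_le_iff] at this)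
      obtain ⟨x, hx, hxJ⟩ := SetLike.not_le_iff_exists.1
        (Nat.find_min hex (Nat.sub_one_lt ht0))
      have hmx : ∀ t ∈ m.toIdeal, t • x ∈ J := fun t ht => Nat.find_spec hex (by
        rw [← Nat.sub_add_cancel (Nat.one_le_iff_ne_zero.2 ht0), pow_succ', smul_eq_mul]
        exact Ideal.mul_mem_mul ht hx)
      have hK : Homog 𝒜 (m.toIdeal : Submodule R R) := fun z hz g => m.isHomogeneous g hz
      let g₀ : (m.toIdeal : Submodule R R) →ₗ[R] X :=
        p'.toFun ∘ₗ ((LinearMap.toSpanSingleton R R x).restrict (p := (m.toIdeal : Submodule R R))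
          (q := p'.domain) (fun t ht => by rw [hp']; exact hmx t ht))
      haveI : Module.Finite R (subObj 𝒜 𝒜 (m.toIdeal : Submodule R R) hK).carrier :=
        Module.Finite.iff_fg.2 (IsNoetherian.noetherian _)
      obtain ⟨h, hh⟩ := exists_extend_linear (F := GrLC.GMod.of 𝒜 R 𝒜) (X := GrLC.GMod.of 𝒜 X 𝒳) he.starInj
        (K := subObj 𝒜 𝒜 (m.toIdeal : Submodule R R) hK) (Submodule.subtype _) (fun g z hz => hz)
        (Submodule.injective_subtype _) g₀
      let y : X := h (1 : R)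
      have hy : ∀ (t : R) (ht : t ∈ m.toIdeal) (hd : t • x ∈ p'.domain), p' ⟨t • x, hd⟩ = t • y := fun t ht hd =>
        (LinearMap.congr_fun hh ⟨t, ht⟩).symm.trans ((congrArg h (mul_one t).symm).trans (map_smul h t (1 : R)))
      have hcm : ∀ t : R, t • x ∈ J → t ∈ m.toIdeal := fun t ht => by
        by_contra htm
        obtain ⟨d, r, hr, hdr⟩ := Ideal.IsMaximal.exists_inv ‹m.toIdeal.IsMaximal› htm
        refine hxJ ?_
        have : x = d • (t • x) + r • x := by
          rw [smul_eq_mul, smul_eq_mul, smul_eq_mul, ← mul_assoc, ← add_mul, hdr, one_mul]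
        rw [this]
        exact J.add_mem (J.smul_mem d ht) (hmx r hr)
      have H : ∀ t : R, t • x = 0 → t • y = 0 := fun t ht => by
        have htJ : t • x ∈ J := ht ▸ J.zero_mem
        rw [← hy t (hcm t htJ) (hp' ▸ htJ)]
        exact (congrArg p' (show (⟨t • x, _⟩ : p'.domain) = 0 from Subtype.ext ht)).trans p'.map_zero
      let q' : R →ₗ.[R] X := LinearPMap.mkSpanSingleton' x y H
      have hagree' : ∀ (u : p'.domain) (v : q'.domain), (u : R) = v → p' u = q' v := by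
        rintro ⟨u, hu⟩ ⟨v, hv⟩ (rfl : u = v)
        obtain ⟨t, rfl⟩ := Submodule.mem_span_singleton.1 hv
        exact (hy t (hcm t (hp' ▸ hu)) hu).trans (LinearPMap.mkSpanSingleton'_apply x y H t hv).symm
      let p'' := p'.sup q' hagree'
      have hle : p' ≤ p'' := LinearPMap.left_le_sup p' q' hagree'
      have hlt : J < p''.domain := by
        refine lt_of_le_of_ne (hp' ▸ hle.1) fun h => hxJ ?_
        rw [h]
        exact Submodule.mem_sup_right (Submodule.mem_span_singleton_self x)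
      obtain ⟨g, hg⟩ := ih _ hlt (hJ.trans hlt.le) p'' rfl
      exact ⟨g, fun u => (hg ⟨u, hle.1 u.2⟩).trans (hle.2 (x := u) (y := ⟨u, hle.1 u.2⟩) rfl).symm⟩
  obtain ⟨g, hg⟩ := main _ le_sup_right (p.sup q hagree) rfl
  exact ⟨g, fun x hx => (hg ⟨x, Submodule.mem_sup_left hx⟩).trans
    ((LinearPMap.left_le_sup p q hagree).2 (x := ⟨x, hx⟩) rfl).symm⟩

theorem essential (he : GrLC.IsStarInjHull 𝒜 (GrLC.quotGr 𝒜 m) 𝒳 e) {N : Submodule R X} (hN : N ≠ ⊥) :
    N ⊓ LinearMap.range e ≠ ⊥ := by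
  obtain ⟨x, hx, hx0⟩ := Submodule.exists_mem_ne_zero_of_ne_bot hN
  have hex : ∃ t, ∀ r ∈ m.toIdeal ^ t, r • x = 0 :=
    (show x ∈ GrLC.gam m.toIdeal X from (gam_eq_top 𝒜 m 𝒳 he) ▸ Submodule.mem_top)
  have ht0 : Nat.find hex ≠ 0 := fun h => hx0 (by
    have := Nat.find_spec hex 1 (by rw [h, pow_zero, Ideal.one_eq_top]; trivial)
    rwa [one_smul] at this)
  have := Nat.find_min hex (Nat.sub_one_lt ht0)
  push Not at this
  obtain ⟨r, hr, hr0⟩ := this
  set y := r • x
  have hy : ∀ t ∈ m.toIdeal, t • y = 0 := fun t ht => by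
    rw [← mul_smul]
    refine Nat.find_spec hex _ ?_
    rw [← Nat.sub_add_cancel (Nat.one_le_iff_ne_zero.2 ht0), pow_succ']
    exact Ideal.mul_mem_mul ht hr
  have hsoc : ∀ g, pr 𝒳 g y ∈ LinearMap.range e := fun g => by
    by_cases h0 : pr 𝒳 g y = 0
    · rw [h0]; exact zero_mem _
    have hann : ∀ t ∈ m.toIdeal, t • pr 𝒳 g y = 0 := by
      intro t ht
      rw [← sum_pr 𝒜 t, Finset.sum_smul]
      refine Finset.sum_eq_zero fun d _ => ?_
      have h1 := pr_smul 𝒜 𝒳 (pr_mem 𝒜 d t) (d + g) y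
      rw [add_sub_cancel_left, hy (pr 𝒜 d t) (m.isHomogeneous d ht), map_zero] at h1
      exact h1.symm
    have hP := he.essential (Submodule.span R {pr 𝒳 g y})
      ((homog_iff 𝒳).2 (homog_span_singleton 𝒜 𝒳 (pr_mem 𝒳 g y)))
      (fun h => h0 ((Submodule.span_singleton_eq_bot).1 h))
    obtain ⟨z, hz, hz0⟩ := Submodule.exists_mem_ne_zero_of_ne_bot hP
    obtain ⟨t, rfl⟩ := Submodule.mem_span_singleton.1 hz.1
    have htm : t ∉ m.toIdeal := fun h => hz0 (hann t h)
    obtain ⟨d, s, hs, hds⟩ := Ideal.IsMaximal.exists_inv ‹m.toIdeal.IsMaximal› htm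
    have : pr 𝒳 g y = d • t • pr 𝒳 g y := by
      conv_lhs => rw [← one_smul R (pr 𝒳 g y), ← hds, add_smul, mul_smul, hann s hs, add_zero]
    rw [this]
    exact Submodule.smul_mem _ d hz.2
  intro h
  exact hr0 ((Submodule.eq_bot_iff _).1 h y ⟨N.smul_mem r hx, mem_of_pr_mem 𝒳 hsoc⟩)

theorem isInjectiveHull (he : GrLC.IsStarInjHull 𝒜 (GrLC.quotGr 𝒜 m) 𝒳 e) : InjHull.IsInjectiveHull e where
  injective := he.injective
  essential _ hN := essential 𝒜 m 𝒳 he hN
  isInjective := Module.Baer.injective (baer 𝒜 m 𝒳 he)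

end Groth.Agent.GrLCBassLib
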